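import Cfsg.Prelude.Def_Involutions
import Mathlib

/-!
# Strongly embedded subgroups: basic API
-/

set_option autoImplicit false

namespace Cfsg.Agent.Lib.Involutions2.StronglyEmbedded

variable {G : Type*} [Group G]

lemma mem_conj_iff {H : Subgroup G} {g x : G} :
    x ∈ H.map (MulAut.conj g).toMonoidHom ↔ g⁻¹ * x * g ∈ H := by
  constructor
  · rintro ⟨y, hy, rfl⟩
    have : g⁻¹ * ((MulAut.conj g).toMonoidHom y) * g = y := by
      simp [MulAut.conj_apply, mul_assoc]
    rwa [this]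
  · intro h
    refine ⟨_, h, ?_⟩
    simp [MulAut.conj_apply, mul_assoc]

lemma conj_mem_conj {H : Subgroup G} {g x : G} (hx : x ∈ H) :
    g * x * g⁻¹ ∈ H.map (MulAut.conj g).toMonoidHom :=
  ⟨x, hx, by simp [MulAut.conj_apply]⟩

/-- An odd-order subgroup contains no involution. -/
lemma not_odd_of_mem {K : Subgroup G} {t : G} (htK : t ∈ K) (ht : orderOf t = 2) :
    ¬ Odd (Nat.card K) := by
  intro h
  have h2 : 2 ∣ Nat.card K := ht ▸ K.orderOf_dvd_natCard htK
  exact (Nat.not_even_iff_odd.2 h) (even_iff_two_dvd.2 h2)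

/-- An even-order finite subgroup contains an involution. -/
lemma exists_involution_of_not_odd [Finite G] {K : Subgroup G} (h : ¬ Odd (Nat.card K)) :
    ∃ t ∈ K, orderOf t = 2 := by
  have h2 : 2 ∣ Nat.card K := even_iff_two_dvd.1 (Nat.not_odd_iff_even.1 h)
  have : Fact (Nat.Prime 2) := ⟨Nat.prime_two⟩
  obtain ⟨x, hx⟩ := exists_prime_orderOf_dvd_card' (G := K) 2 h2
  refine ⟨x.1, x.2, ?_⟩
  rw [← hx]
  simp

end Cfsg.Agent.Lib.Involutions2.StronglyEmbedded
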